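import Groth.Agent.GaSplit95.Cocycle
import Mathlib.Algebra.CharP.Frobenius
import Mathlib.RingTheory.MvPolynomial.Ideal
import Mathlib.RingTheory.Nilpotent.Lemmas
import Mathlib.RingTheory.Polynomial.Nilpotent
import Mathlib.Algebra.MvPolynomial.Nilpotent
import Mathlib.RingTheory.Noetherian.Nilpotent

/-!
Cocycles of `G_a` with values in `G_m` split when Frobenius is surjective.
-/

universe u

open MvPolynomial

namespace Groth.Agent.GaSplit95

variable {R : Type u} [CommRing R]

/-- The exponent `(i, j)`. -/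
noncomputable def e2 (i j : ℕ) : Fin 2 →₀ ℕ := Finsupp.equivFunOnFinite.symm ![i, j]

/-- The exponent `(i, j, k)`. -/
noncomputable def e3 (i j k : ℕ) : Fin 3 →₀ ℕ := Finsupp.equivFunOnFinite.symm ![i, j, k]

theorem e2_eta (d : Fin 2 →₀ ℕ) : e2 (d 0) (d 1) = d := by
  ext i; fin_cases i <;> rfl

theorem e2_inj {i j i' j' : ℕ} : e2 i j = e2 i' j' ↔ i = i' ∧ j = j' := by
  simp [e2, funext_iff, Fin.forall_fin_two]

theorem e3_inj {i j k i' j' k' : ℕ} : e3 i j k = e3 i' j' k' ↔ i = i' ∧ j = j' ∧ k = k' := by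
  simp [e3, funext_iff, Fin.forall_fin_succ]

theorem monomial_e2 (i j : ℕ) (r : R) : monomial (e2 i j) r = C r * X 0 ^ i * X 1 ^ j := by
  rw [show e2 i j = Finsupp.single 0 i + Finsupp.single 1 j by ext l; fin_cases l <;> simp [e2],
    C_mul_X_pow_eq_monomial, X_pow_eq_monomial, monomial_mul, mul_one]

theorem monomial_e3 (i j k : ℕ) (r : R) : monomial (e3 i j k) r = C r * X 0 ^ i * X 1 ^ j * X 2 ^ k := by
  rw [show e3 i j k = Finsupp.single 0 i + Finsupp.single 1 j + Finsupp.single 2 k by
      ext l; fin_cases l <;> simp [e3],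
    C_mul_X_pow_eq_monomial, X_pow_eq_monomial, X_pow_eq_monomial, monomial_mul, monomial_mul, mul_one, mul_one]

theorem aeval_monomial_e2 {S : Type*} [CommRing S] [Algebra R S] (x y : S) (a b : ℕ) (r : R) :
    aeval ![x, y] (monomial (e2 a b) r) = algebraMap R S r * x ^ a * y ^ b := by
  simp [monomial_e2]

theorem coeff_left (g : MvPolynomial (Fin 2) R) (i j k : ℕ) :
    coeff (e3 i j k) (aeval ![X 0 + X 1, (X 2 : MvPolynomial (Fin 3) R)] g) =
      (((i + j).choose i : ℕ) : R) * coeff (e2 (i + j) k) g := by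
  induction g using MvPolynomial.induction_on' with
  | monomial d r =>
    obtain ⟨a, b, rfl⟩ : ∃ a b, d = e2 a b := ⟨_, _, (e2_eta d).symm⟩
    have h : aeval ![X 0 + X 1, (X 2 : MvPolynomial (Fin 3) R)] (monomial (e2 a b) r) =
        ∑ t ∈ Finset.range (a + 1), monomial (e3 t (a - t) b) (r * (a.choose t : ℕ)) := by
      rw [aeval_monomial_e2, MvPolynomial.algebraMap_eq, add_pow, Finset.mul_sum, Finset.sum_mul]
      refine Finset.sum_congr rfl fun t _ => ?_
      rw [monomial_e3, map_mul, map_natCast]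
      ring
    rw [h, coeff_sum]
    simp only [coeff_monomial, e3_inj, e2_inj]
    by_cases hab : a = i + j ∧ b = k
    · obtain ⟨rfl, rfl⟩ := hab
      rw [Finset.sum_eq_single i, if_pos ⟨rfl, by omega, rfl⟩, if_pos ⟨rfl, rfl⟩, mul_comm]
      · exact fun t _ ht => if_neg fun e => ht e.1
      · intro hi; simp at hi
    · rw [if_neg hab, mul_zero]
      refine Finset.sum_eq_zero fun t ht => if_neg ?_
      rintro ⟨rfl, h2, rfl⟩
      simp at ht
      exact hab ⟨by omega, rfl⟩
  | add x y hx hy => simp only [map_add, coeff_add, hx, hy, mul_add]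

theorem coeff_right (g : MvPolynomial (Fin 2) R) (i j k : ℕ) :
    coeff (e3 i j k) (aeval ![(X 0 : MvPolynomial (Fin 3) R), X 1 + X 2] g) =
      (((j + k).choose j : ℕ) : R) * coeff (e2 i (j + k)) g := by
  induction g using MvPolynomial.induction_on' with
  | monomial d r =>
    obtain ⟨a, b, rfl⟩ : ∃ a b, d = e2 a b := ⟨_, _, (e2_eta d).symm⟩
    have h : aeval ![(X 0 : MvPolynomial (Fin 3) R), X 1 + X 2] (monomial (e2 a b) r) =
        ∑ t ∈ Finset.range (b + 1), monomial (e3 a t (b - t)) (r * (b.choose t : ℕ)) := by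
      rw [aeval_monomial_e2, MvPolynomial.algebraMap_eq, add_pow, Finset.mul_sum]
      refine Finset.sum_congr rfl fun t _ => ?_
      rw [monomial_e3, map_mul, map_natCast]
      ring
    rw [h, coeff_sum]
    simp only [coeff_monomial, e3_inj, e2_inj]
    by_cases hab : a = i ∧ b = j + k
    · obtain ⟨rfl, rfl⟩ := hab
      rw [Finset.sum_eq_single j, if_pos ⟨rfl, rfl, by omega⟩, if_pos ⟨rfl, rfl⟩, mul_comm]
      · exact fun t _ ht => if_neg fun e => ht e.2.1
      · intro hi; simp at hi
    · rw [if_neg hab, mul_zero]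
      refine Finset.sum_eq_zero fun t ht => if_neg ?_
      rintro ⟨rfl, rfl, h3⟩
      simp at ht
      exact hab ⟨rfl, by omega⟩
  | add x y hx hy => simp only [map_add, coeff_add, hx, hy, mul_add]

theorem coeff_first (g : MvPolynomial (Fin 2) R) (i j k : ℕ) (hk : k ≠ 0) :
    coeff (e3 i j k) (aeval ![(X 0 : MvPolynomial (Fin 3) R), X 1] g) = 0 := by
  induction g using MvPolynomial.induction_on' with
  | monomial d r =>
    obtain ⟨a, b, rfl⟩ : ∃ a b, d = e2 a b := ⟨_, _, (e2_eta d).symm⟩
    have h : aeval ![(X 0 : MvPolynomial (Fin 3) R), X 1] (monomial (e2 a b) r) = monomial (e3 a b 0) r := by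
      rw [aeval_monomial_e2, MvPolynomial.algebraMap_eq, monomial_e3, pow_zero, mul_one]
    rw [h, coeff_monomial, if_neg fun e => hk (e3_inj.mp e).2.2.symm]
  | add x y hx hy => simp only [map_add, coeff_add, hx, hy, add_zero]

theorem coeff_last (g : MvPolynomial (Fin 2) R) (i j k : ℕ) (hi : i ≠ 0) :
    coeff (e3 i j k) (aeval ![(X 1 : MvPolynomial (Fin 3) R), X 2] g) = 0 := by
  induction g using MvPolynomial.induction_on' with
  | monomial d r =>
    obtain ⟨a, b, rfl⟩ : ∃ a b, d = e2 a b := ⟨_, _, (e2_eta d).symm⟩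
    have h : aeval ![(X 1 : MvPolynomial (Fin 3) R), X 2] (monomial (e2 a b) r) = monomial (e3 0 a b) r := by
      rw [aeval_monomial_e2, MvPolynomial.algebraMap_eq, monomial_e3, pow_zero, mul_one]
    rw [h, coeff_monomial, if_neg fun e => hi (e3_inj.mp e).1.symm]
  | add x y hx hy => simp only [map_add, coeff_add, hx, hy, add_zero]

theorem coeff_swap (g : MvPolynomial (Fin 2) R) (i j : ℕ) :
    coeff (e2 i j) (aeval ![(X 1 : MvPolynomial (Fin 2) R), X 0] g) = coeff (e2 j i) g := by
  induction g using MvPolynomial.induction_on' with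
  | monomial d r =>
    obtain ⟨a, b, rfl⟩ : ∃ a b, d = e2 a b := ⟨_, _, (e2_eta d).symm⟩
    have h : aeval ![(X 1 : MvPolynomial (Fin 2) R), X 0] (monomial (e2 a b) r) = monomial (e2 b a) r := by
      rw [aeval_monomial_e2, MvPolynomial.algebraMap_eq, monomial_e2]; ring
    simp only [h, coeff_monomial, e2_inj, and_comm]
  | add x y hx hy => simp only [map_add, coeff_add, hx, hy, add_zero]

theorem coeff_zeroSnd (g : MvPolynomial (Fin 2) R) (i : ℕ) :
    coeff (e2 i 0) (aeval ![(X 0 : MvPolynomial (Fin 2) R), 0] g) = coeff (e2 i 0) g := by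
  induction g using MvPolynomial.induction_on' with
  | monomial d r =>
    obtain ⟨a, b, rfl⟩ : ∃ a b, d = e2 a b := ⟨_, _, (e2_eta d).symm⟩
    rcases Nat.eq_zero_or_pos b with rfl | hb
    · have h : aeval ![(X 0 : MvPolynomial (Fin 2) R), 0] (monomial (e2 a 0) r) = monomial (e2 a 0) r := by
        rw [aeval_monomial_e2, MvPolynomial.algebraMap_eq, monomial_e2]; ring
      rw [h]
    · rw [aeval_monomial_e2, zero_pow hb.ne', mul_zero, coeff_zero, coeff_monomial,
        if_neg fun e => hb.ne' (e2_inj.mp e).2]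
  | add x y hx hy => simp only [map_add, coeff_add, hx, hy, add_zero]

/-- Multiplicative cocycles. -/
structure IsMulCocycle (h : MvPolynomial (Fin 2) R) : Prop where
  unit : IsUnit h
  zero : aeval ![(X 0 : MvPolynomial (Fin 2) R), 0] h = 1
  symm : aeval ![(X 1 : MvPolynomial (Fin 2) R), X 0] h = h
  assoc : aeval ![(X 1 : MvPolynomial (Fin 3) R), X 2] h * aeval ![X 0, X 1 + X 2] h =
    aeval ![X 0 + X 1, X 2] h * aeval ![X 0, X 1] h

/-- `f x * f y * u (x + y)`. -/
noncomputable def dlt (f u : Polynomial R) : MvPolynomial (Fin 2) R :=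
  Polynomial.aeval (X 0) f * Polynomial.aeval (X 1) f * Polynomial.aeval (X 0 + X 1) u

theorem aeval_dlt (f u : Polynomial R) {S : Type*} [CommRing S] [Algebra R S] (x y : S) :
    aeval ![x, y] (dlt f u) = Polynomial.aeval x f * Polynomial.aeval y f * Polynomial.aeval (x + y) u := by
  simp [dlt, ← Polynomial.aeval_algHom_apply]

theorem aeval_mul_eq_one {f u : Polynomial R} (hfu : f * u = 1) {S : Type*} [CommRing S] [Algebra R S] (x : S) :
    Polynomial.aeval x f * Polynomial.aeval x u = 1 := by rw [← map_mul, hfu, map_one]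

theorem IsMulCocycle.mul_dlt {h : MvPolynomial (Fin 2) R} (hh : IsMulCocycle h) {f u : Polynomial R}
    (hfu : f * u = 1) (hf0 : f.eval 0 = 1) : IsMulCocycle (h * dlt f u) := by
  refine ⟨hh.unit.mul ?_, ?_, ?_, ?_⟩
  · have hf : IsUnit f := IsUnit.of_mul_eq_one u hfu
    have hu : IsUnit u := IsUnit.of_mul_eq_one f (by rw [mul_comm, hfu])
    exact ((hf.map _).mul (hf.map _)).mul (hu.map _)
  · rw [map_mul, hh.zero, aeval_dlt, one_mul, add_zero,
      show Polynomial.aeval (0 : MvPolynomial (Fin 2) R) f = 1 by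
        rw [show (0 : MvPolynomial (Fin 2) R) = algebraMap R _ 0 by simp,
          Polynomial.aeval_algebraMap_apply_eq_algebraMap_eval, hf0, map_one],
      mul_one, aeval_mul_eq_one hfu]
  · rw [map_mul, hh.symm, aeval_dlt, dlt, add_comm, mul_comm (Polynomial.aeval (X 1) f)]
  · simp only [map_mul, aeval_dlt]
    have key : ∀ x y : MvPolynomial (Fin 3) R, ∀ z, Polynomial.aeval x f * Polynomial.aeval y f *
        Polynomial.aeval (x + y) u * (Polynomial.aeval (x + y) f * z) = Polynomial.aeval x f * Polynomial.aeval y f * z := by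
      intro x y z
      linear_combination (Polynomial.aeval x f * Polynomial.aeval y f * z) * aeval_mul_eq_one hfu (x + y)
    set a : MvPolynomial (Fin 3) R := X 0
    set b : MvPolynomial (Fin 3) R := X 1
    set c : MvPolynomial (Fin 3) R := X 2
    have e1 := key b c (Polynomial.aeval a f * Polynomial.aeval (a + b + c) u)
    have e2 := key a b (Polynomial.aeval c f * Polynomial.aeval (a + b + c) u)
    have e : a + (b + c) = a + b + c := (add_assoc a b c).symm
    rw [e]
    linear_combination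
      (Polynomial.aeval b f * Polynomial.aeval c f * Polynomial.aeval (b + c) u *
          (Polynomial.aeval a f * Polynomial.aeval (b + c) f * Polynomial.aeval (a + b + c) u)) * hh.assoc +
      (aeval ![a + b, c] h * aeval ![a, b] h) * e1 - (aeval ![a + b, c] h * aeval ![a, b] h) * e2

section Step

variable (p : ℕ) [Fact p.Prime]

/-- The truncated exponential. -/
def ex {S : Type*} [CommRing S] [Algebra (ZMod p) S] (x : S) : S :=
  ∑ t ∈ Finset.range p, algebraMap (ZMod p) S ((t.factorial : ℕ) : ZMod p)⁻¹ * x ^ t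

theorem ex_mul_ex {S : Type*} [CommRing S] [Algebra (ZMod p) S] (c u v : S) (hc : c ^ (p + 1) = 0) :
    ex p (c * u) * ex p (c * v) = ex p (c * (u + v)) +
      c ^ p * ∑ t ∈ Finset.Ioo 0 p, algebraMap (ZMod p) S (w p t) * (u ^ t * v ^ (p - t)) := by
  classical
  let ι := algebraMap (ZMod p) S
  let F : ℕ → ℕ → S := fun i j =>
    ι ((i.factorial : ℕ) : ZMod p)⁻¹ * (c * u) ^ i * (ι ((j.factorial : ℕ) : ZMod p)⁻¹ * (c * v) ^ j)
  have h1 : ex p (c * (u + v)) = ∑ m ∈ Finset.range p, ∑ k ∈ Finset.range (m + 1), F k (m - k) := by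
    refine Finset.sum_congr rfl fun m hm => ?_
    rw [mul_add, add_pow, Finset.mul_sum]
    refine Finset.sum_congr rfl fun k hk => ?_
    have hkm : k ≤ m := Nat.lt_succ_iff.mp (Finset.mem_range.mp hk)
    have hmp : m < p := Finset.mem_range.mp hm
    have e : ((m.factorial : ℕ) : ZMod p)⁻¹ * (m.choose k : ℕ) =
        ((k.factorial : ℕ) : ZMod p)⁻¹ * (((m - k).factorial : ℕ) : ZMod p)⁻¹ := by
      have := factorial_ne_zero (p := p) hmp
      have := factorial_ne_zero (p := p) (t := k) (by omega)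
      have := factorial_ne_zero (p := p) (t := m - k) (by omega)
      field_simp
      exact_mod_cast congrArg (Nat.cast : ℕ → ZMod p) (Nat.choose_mul_factorial_mul_factorial hkm)
    have e' := congrArg ι e
    simp only [map_mul, map_natCast] at e'
    simp only [F]
    linear_combination ((c * u) ^ k * (c * v) ^ (m - k)) * e'
  have h2 : ex p (c * u) * ex p (c * v) = ∑ i ∈ Finset.range p, ∑ j ∈ Finset.range p, F i j :=
    Finset.sum_mul_sum _ _ _ _
  have hvan : ∀ i j, p < i + j → F i j = 0 := fun i j h => by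
    obtain ⟨r, hr⟩ := Nat.le.dest (show p + 1 ≤ i + j by omega)
    calc F i j = ι ((i.factorial : ℕ) : ZMod p)⁻¹ * ι ((j.factorial : ℕ) : ZMod p)⁻¹ * u ^ i * v ^ j *
          c ^ (i + j) := by simp only [F]; ring
      _ = 0 := by rw [← hr, pow_add, hc, zero_mul, mul_zero]
  rw [h1, h2, Finset.sum_range_diag_flip p F, ← sub_eq_iff_eq_add', ← Finset.sum_sub_distrib]
  have h3 : ∀ i ∈ Finset.range p, ∑ j ∈ Finset.range p, F i j - ∑ j ∈ Finset.range (p - i), F i j =
      if 0 < i then F i (p - i) else 0 := fun i hi => by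
    rw [← Finset.sum_Ico_eq_sub _ (Nat.sub_le p i)]
    have := Finset.mem_range.mp hi
    split_ifs with h
    · rw [Finset.sum_eq_single_of_mem (p - i) (Finset.mem_Ico.mpr ⟨le_rfl, by omega⟩)]
      exact fun j hj hne => hvan i j (by simp at hj; omega)
    · rw [show p - i = p by omega, Finset.Ico_self, Finset.sum_empty]
  rw [Finset.sum_congr rfl h3, ← Finset.sum_filter, Finset.mul_sum]
  refine Finset.sum_congr (by ext; simp; omega) fun t ht => ?_
  have htp : t < p := (Finset.mem_Ioo.mp ht).2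
  simp only [F, w, Nat.cast_mul, mul_inv, map_mul, mul_pow]
  calc _ = ι ((t.factorial : ℕ) : ZMod p)⁻¹ * ι (((p - t).factorial : ℕ) : ZMod p)⁻¹ * (c ^ t * c ^ (p - t)) *
        (u ^ t * v ^ (p - t)) := by ring
    _ = _ := by rw [← pow_add, Nat.add_sub_cancel' htp.le]; ring

variable [CharP R p]

theorem exists_step (hF : Function.Surjective (frobenius R p)) {h : MvPolynomial (Fin 2) R}
    (hh : IsMulCocycle h) {I J K : Ideal R} (hroot : ∀ x ∈ I, ∃ c ∈ J, c ^ p = x) (hIJ : I ≤ J)
    (hJ : ∀ x ∈ J, IsNilpotent x) (hKI : K ≤ I) (hg : ∀ d, coeff d (h - 1) ∈ K) :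
    ∃ f u : Polynomial R, f * u = 1 ∧ f.eval 0 = 1 ∧ ∀ d, coeff d (h * dlt f u - 1) ∈ K * J := by
  classical
  let : Algebra (ZMod p) R := ZMod.algebra R p
  let mk := Ideal.Quotient.mk (K * J)
  let π := MvPolynomial.map (σ := Fin 2) mk
  let KP : Ideal (MvPolynomial (Fin 2) (R ⧸ K * J)) := (K.map mk).map MvPolynomial.C
  let g := π (h - 1)
  have hKJ : ∀ x ∈ K.map mk, ∀ y ∈ J.map mk, x * y = 0 := fun x hx y hy => by
    have := Ideal.mul_mem_mul hx hy
    rwa [← Ideal.map_mul, Ideal.map_quotient_self, Ideal.mem_bot] at this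
  have hsq : ∀ x ∈ KP, ∀ y ∈ KP, x * y = 0 := fun x hx y hy => by
    have e : (K.map mk) * (K.map mk) = ⊥ := le_bot_iff.mp <| Ideal.mul_le.mpr fun a ha b hb =>
      Ideal.mem_bot.mpr (hKJ a ha b (Ideal.map_mono (hKI.trans hIJ) hb))
    have := Ideal.mul_mem_mul hx hy
    rwa [← Ideal.map_mul, e, Ideal.map_bot, Ideal.mem_bot] at this
  -- what can be achieved
  let Ach : MvPolynomial (Fin 2) (R ⧸ K * J) → Prop := fun δ => δ ∈ KP ∧ ∃ f u : Polynomial R, f * u = 1 ∧
    f.eval 0 = 1 ∧ π (Polynomial.aeval (X 0) f * Polynomial.aeval (X 1) f) =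
      π (Polynomial.aeval (X 0 + X 1) f) * (1 + δ)
  have ach0 : Ach 0 := ⟨zero_mem _, 1, 1, one_mul 1, by simp, by simp⟩
  have achAdd : ∀ δ δ', Ach δ → Ach δ' → Ach (δ + δ') := by
    rintro δ δ' ⟨hδ, f, u, hfu, hf0, e⟩ ⟨hδ', f', u', hfu', hf0', e'⟩
    refine ⟨add_mem hδ hδ', f * f', u * u', by rw [mul_mul_mul_comm, hfu, hfu', one_mul],
      by rw [Polynomial.eval_mul, hf0, hf0', one_mul], ?_⟩
    simp only [map_mul] at e e' ⊢
    linear_combination (π (Polynomial.aeval (X 0) f') * π (Polynomial.aeval (X 1) f')) * e +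
      (π (Polynomial.aeval (X 0 + X 1) f) * (1 + δ)) * e' +
      (π (Polynomial.aeval (X 0 + X 1) f) * π (Polynomial.aeval (X 0 + X 1) f')) * hsq δ hδ δ' hδ'
  have mkUnit : ∀ (c : R) (r : Polynomial R), IsNilpotent c → ∃ u, (1 + Polynomial.C c * r) * u = 1 :=
    fun c r hc => ⟨_, (IsUnit.mul_val_inv (IsNilpotent.isUnit_one_add
      ((Commute.all _ r).isNilpotent_mul_right (hc.map Polynomial.C))))⟩
  have achPow : ∀ (l : R ⧸ K * J) (n : ℕ), l ∈ K.map mk → 0 < n →
      Ach (-(C l * ((X 0 + X 1) ^ n - X 0 ^ n - X 1 ^ n))) := by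
    intro l n hl hn
    obtain ⟨l', hl', rfl⟩ := (Ideal.mem_map_iff_of_surjective mk Ideal.Quotient.mk_surjective).mp hl
    obtain ⟨u, hu⟩ := mkUnit l' (Polynomial.X ^ n) (hJ _ (hIJ (hKI hl')))
    have hmem : C (mk l') ∈ KP := Ideal.mem_map_of_mem _ hl
    refine ⟨neg_mem (KP.mul_mem_right _ hmem), _, u, hu, by simp [zero_pow hn.ne'], ?_⟩
    simp only [map_mul, map_add, map_one, map_pow, Polynomial.aeval_C, Polynomial.aeval_X, π,
      MvPolynomial.algebraMap_eq, MvPolynomial.map_C, MvPolynomial.map_X]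
    linear_combination (X 0 ^ n * X 1 ^ n + (X 0 + X 1) ^ n * ((X 0 + X 1) ^ n - X 0 ^ n - X 1 ^ n)) *
      hsq _ hmem _ hmem
  have achW : ∀ (l : R ⧸ K * J) (j : ℕ), l ∈ K.map mk →
      Ach (-(C l * ∑ t ∈ Finset.Ioo 0 p, C (algebraMap (ZMod p) _ (w p t)) *
        (X 0 ^ (t * p ^ j) * X 1 ^ ((p - t) * p ^ j)))) := by
    intro l j hl
    obtain ⟨l', hl', rfl⟩ := (Ideal.mem_map_iff_of_surjective mk Ideal.Quotient.mk_surjective).mp hl
    obtain ⟨c, hc, hcp⟩ := hroot (-l') (neg_mem (hKI hl'))
    set q := p ^ j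
    let f : Polynomial R := ex p (Polynomial.C c * Polynomial.X ^ q)
    obtain ⟨r, hr⟩ : ∃ r, f = 1 + Polynomial.C c * r := by
      refine ⟨∑ t ∈ Finset.range (p - 1), algebraMap (ZMod p) _ (((t + 1).factorial : ℕ) : ZMod p)⁻¹ *
        (Polynomial.X ^ q * (Polynomial.C c * Polynomial.X ^ q) ^ t), ?_⟩
      simp only [f, ex]
      have hrange : Finset.range p = Finset.range (p - 1 + 1) := by
        rw [Nat.sub_add_cancel (Fact.out : p.Prime).pos]
      rw [hrange, Finset.sum_range_succ', Finset.mul_sum, add_comm]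
      congr 1
      · simp
      · exact Finset.sum_congr rfl fun t _ => by ring
    obtain ⟨u, hu⟩ := mkUnit c r (hJ c hc)
    have hcl : mk c ^ p = -mk l' := by rw [← map_pow, hcp, map_neg]
    have hmem : C (mk l') ∈ KP := Ideal.mem_map_of_mem _ hl
    refine ⟨neg_mem (KP.mul_mem_right _ hmem), f, u, by rw [hr]; exact hu, ?_, ?_⟩
    · have e0 : f.eval 0 = 1 := by
        simp only [f, ex, Polynomial.eval_finsetSum, Polynomial.eval_mul, Polynomial.eval_pow,
          Polynomial.eval_C, Polynomial.eval_X, zero_pow (pow_ne_zero j (Fact.out : p.Prime).ne_zero), mul_zero]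
        rw [Finset.sum_eq_single_of_mem 0 (Finset.mem_range.mpr (Fact.out : p.Prime).pos)
          fun t _ ht => by simp [q, zero_pow ht, zero_pow (pow_ne_zero j (Fact.out : p.Prime).ne_zero)]]
        simp
      exact e0
    · have hπ : ∀ x : MvPolynomial (Fin 2) R, π (Polynomial.aeval x f) = ex p (C (mk c) * π x ^ q) := fun x => by
        simp only [f, ex, map_sum, map_mul, map_pow, Polynomial.aeval_C, Polynomial.aeval_X]
        refine Finset.sum_congr rfl fun t _ => ?_
        congr 1
        · have : ((π : MvPolynomial (Fin 2) R →+* (MvPolynomial (Fin 2) (R ⧸ K * J))).comp ((Polynomial.aeval x).toRingHom.comp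
            (algebraMap (ZMod p) (Polynomial R)))) = algebraMap (ZMod p) (MvPolynomial (Fin 2) (R ⧸ K * J)) := Subsingleton.elim _ _
          exact congr($this _)
        · simp [π, MvPolynomial.algebraMap_eq]
      have hx : (π (X 0 + X 1)) ^ q = (π (X 0)) ^ q + (π (X 1)) ^ q := by
        rw [← map_pow, add_pow_char_pow, map_add, map_pow, map_pow]
      have hc1 : (C (mk c) : (MvPolynomial (Fin 2) (R ⧸ K * J))) ^ (p + 1) = 0 := by
        rw [← map_pow, pow_succ, hcl, hKJ _ (neg_mem hl) _ (Ideal.mem_map_of_mem mk hc), map_zero]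
      rw [map_mul, hπ, hπ, hπ, hx, ex_mul_ex p _ _ _ hc1, ← map_pow C (mk c) p, hcl, map_neg]
      set W := ∑ t ∈ Finset.Ioo 0 p, algebraMap (ZMod p) (MvPolynomial (Fin 2) (R ⧸ K * J)) (w p t) * ((π (X 0) ^ q) ^ t * (π (X 1) ^ q) ^ (p - t))
      have hW : (∑ t ∈ Finset.Ioo 0 p, C (algebraMap (ZMod p) _ (w p t)) *
          (X 0 ^ (t * q) * X 1 ^ ((p - t) * q)) : (MvPolynomial (Fin 2) (R ⧸ K * J))) = W := by
        refine Finset.sum_congr rfl fun t _ => ?_
        simp only [π, MvPolynomial.map_X, ← pow_mul, mul_comm q]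
        congr 1
      rw [hW]
      -- the correction only sees the constant term
      obtain ⟨r', hr'⟩ : ∃ r', ex p (C (mk c) * (π (X 0) ^ q + π (X 1) ^ q)) = 1 + C (mk c) * r' := by
        refine ⟨π (Polynomial.aeval (X 0 + X 1) r), ?_⟩
        rw [← hx, ← hπ, hr]
        simp [π, MvPolynomial.algebraMap_eq]
      have h0 : C (mk c) * (C (mk l') : (MvPolynomial (Fin 2) (R ⧸ K * J))) = 0 := by
        rw [← map_mul, mul_comm (mk c), hKJ _ hl _ (Ideal.mem_map_of_mem mk hc), map_zero]
      rw [hr']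
      linear_combination (r' * W) * h0
  -- coefficients of the linearised cocycle
  have hgK : g ∈ KP := MvPolynomial.mem_map_C_iff.mpr fun d => by
    rw [MvPolynomial.coeff_map]; exact Ideal.mem_map_of_mem _ (hg d)
  have nat : ∀ {n : ℕ} (v : Fin 2 → MvPolynomial (Fin n) R) (q : MvPolynomial (Fin 2) R),
      MvPolynomial.map mk (aeval v q) = aeval (fun i => MvPolynomial.map mk (v i)) (π q) := by
    intro n v q
    induction q using MvPolynomial.induction_on with
    | C a => simp [π, MvPolynomial.algebraMap_eq]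
    | add x y hx hy => simp only [map_add, hx, hy]
    | mul_X x i hx =>
      rw [map_mul, map_mul, hx]
      simp [π, MvPolynomial.map_X]
  have hπh : π h = 1 + g := by simp [g, map_sub, map_one]
  have hsymm : aeval ![(X 1 : MvPolynomial (Fin 2) (R ⧸ K * J)), X 0] g = g := by
    have e := congrArg π hh.symm
    rw [nat] at e
    simp only [hπh, map_add, map_one] at e
    have e' : (fun i => MvPolynomial.map mk (![(X 1 : MvPolynomial (Fin 2) R), X 0] i)) = ![X 1, X 0] := by
      funext i; fin_cases i <;> simp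
    rw [e'] at e
    exact add_left_cancel e
  have hzero : aeval ![(X 0 : MvPolynomial (Fin 2) (R ⧸ K * J)), 0] g = 0 := by
    have e := congrArg π hh.zero
    rw [nat] at e
    simp only [hπh, map_add, map_one] at e
    have e' : (fun i => MvPolynomial.map mk (![(X 0 : MvPolynomial (Fin 2) R), 0] i)) = ![X 0, 0] := by
      funext i; fin_cases i <;> simp
    rw [e', add_eq_left] at e
    exact e
  have hassoc : aeval ![(X 1 : MvPolynomial (Fin 3) (R ⧸ K * J)), X 2] g + aeval ![X 0, X 1 + X 2] g =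
      aeval ![X 0 + X 1, X 2] g + aeval ![X 0, X 1] g := by
    have e := congrArg (MvPolynomial.map mk) hh.assoc
    have e' : ∀ a b : MvPolynomial (Fin 3) R, (fun i => MvPolynomial.map mk (![a, b] i)) =
        ![MvPolynomial.map mk a, MvPolynomial.map mk b] := fun a b => by funext i; fin_cases i <;> simp
    simp only [map_mul, nat, e', hπh, map_add, map_one, MvPolynomial.map_X] at e
    have hz : ∀ a b c d : MvPolynomial (Fin 3) (R ⧸ K * J), aeval ![a, b] g * aeval ![c, d] g = 0 := fun a b c d => by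
      have hmem : ∀ a b : MvPolynomial (Fin 3) (R ⧸ K * J), aeval ![a, b] g ∈ (K.map mk).map MvPolynomial.C :=
        fun a b => by
          have := Ideal.mem_map_of_mem (aeval ![a, b]).toRingHom hgK
          rw [Ideal.map_map] at this
          rwa [show (aeval ![a, b]).toRingHom.comp MvPolynomial.C = MvPolynomial.C from
            RingHom.ext fun r => by simp [MvPolynomial.algebraMap_eq]] at this
      have := Ideal.mul_mem_mul (hmem a b) (hmem c d)
      rwa [← Ideal.map_mul, show (K.map mk) * (K.map mk) = ⊥ from le_bot_iff.mp <| Ideal.mul_le.mpr fun a ha b hb =>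
        Ideal.mem_bot.mpr (hKJ a ha b (Ideal.map_mono (hKI.trans hIJ) hb)), Ideal.map_bot, Ideal.mem_bot] at this
    linear_combination e - hz (X 1) (X 2) (X 0) (X 1 + X 2) + hz (X 0 + X 1) (X 2) (X 0) (X 1)
  let G : ℕ → ℕ → R ⧸ K * J := fun i j => coeff (e2 i j) g
  have G0 : ∀ i, G i 0 = 0 := fun i => by simp only [G]; rw [← coeff_zeroSnd, hzero, coeff_zero]
  have Gs : ∀ i j, G i j = G j i := fun i j => by
    simp only [G]; rw [← coeff_swap g j i, hsymm]
  let comp : ℕ → MvPolynomial (Fin 2) (R ⧸ K * J) := fun n =>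
    ∑ i ∈ Finset.range (n + 1), monomial (e2 i (n - i)) (G i (n - i))
  have achComp : ∀ n, Ach (-comp n) := by
    intro n
    let a : ℕ → R ⧸ K * J := fun i => if i < n then G i (n - i) else 0
    have ha0 : a 0 = 0 := by
      simp only [a]; split_ifs
      · rw [Nat.sub_zero, Gs, G0]
      · rfl
    have hcoc : IsCocycle (p := p) n a := by
      refine ⟨fun i hi => ?_, fun i h0 hi => ?_, fun i j h1 hij => ?_⟩
      · rcases hi with rfl | hi
        · exact ha0
        · exact if_neg (by omega)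
      · simp only [a]
        rw [if_pos hi, if_pos (by omega), show n - (n - i) = i by omega, Gs]
      · obtain ⟨k, rfl⟩ : ∃ k, n = i + j + k := ⟨n - i - j, by omega⟩
        simp only [a]
        rw [if_pos hij, if_pos (by omega), show i + j + k - (i + j) = k by omega,
          show i + j + k - i = j + k by omega, Algebra.smul_def, Algebra.smul_def, map_natCast, map_natCast]
        have e := congrArg (coeff (e3 i j k)) hassoc
        simp only [coeff_add, coeff_left, coeff_right, coeff_first _ i j k (by omega : k ≠ 0),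
          coeff_last _ i j k (by omega : i ≠ 0), zero_add, add_zero] at e
        exact e.symm
    have hcomp : comp n = ∑ i ∈ Finset.range (n + 1), monomial (e2 i (n - i)) (a i) := by
      refine Finset.sum_congr rfl fun i hi => ?_
      congr 1
      simp only [a]
      split_ifs with h
      · rfl
      · have : i = n := by simp at hi; omega
        rw [this, Nat.sub_self, G0]
    obtain ⟨l, hl, hl'⟩ := exists_normal_form n a hcoc
    have haK : ∀ i, a i ∈ K.map mk := fun i => by
      simp only [a]; split_ifs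
      · exact (MvPolynomial.mem_map_C_iff.mp hgK) _
      · exact zero_mem _
    have hlK : l ∈ K.map mk := by
      have : Submodule.span (ZMod p) (Set.range a) ≤ (K.map mk).restrictScalars (ZMod p) :=
        Submodule.span_le.mpr (by rintro _ ⟨i, rfl⟩; exact haK i)
      exact this hl
    rcases hl' with hl' | ⟨j, rfl, hl'⟩
    · rcases Nat.eq_zero_or_pos n with rfl | hn
      · simpa [hcomp, ha0] using ach0
      convert achPow l n hlK hn using 2
      rw [hcomp, add_pow, mul_sub, mul_sub, Finset.mul_sum,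
        Finset.sum_range_succ _ n, Finset.sum_range_succ _ n, Finset.range_eq_Ico,
        Finset.sum_eq_sum_Ico_succ_bot hn, Finset.sum_eq_sum_Ico_succ_bot hn, ha0, hcoc.eq_zero n (Or.inr le_rfl)]
      simp only [map_zero, Nat.choose_zero_right, Nat.choose_self, Nat.sub_self, Nat.sub_zero, Nat.cast_one,
        pow_zero, one_mul, mul_one, zero_add, add_zero]
      rw [add_assoc, add_comm (∑ x ∈ _, _) (C l * X 0 ^ n)]
      refine (Eq.trans ?_ (by ring : ∑ x ∈ Finset.Ico 1 n, C l * (X 0 ^ x * X 1 ^ (n - x) * ((n.choose x : ℕ) : MvPolynomial (Fin 2) (R ⧸ K * J))) = _))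
      refine Finset.sum_congr rfl fun i hi => ?_
      have hi := Finset.mem_Ico.mp hi
      rw [hl' i (by omega) hi.2, Algebra.smul_def, map_natCast, monomial_e2, map_mul, map_natCast]
      ring
    · convert achW l j hlK using 2
      rw [hcomp, Finset.mul_sum]
      simp only [hl', map_sum]
      rw [Finset.sum_comm]
      refine Finset.sum_congr rfl fun t ht => ?_
      have htp := Finset.mem_Ioo.mp ht
      have hle : t * p ^ j ≤ p ^ (j + 1) := by
        rw [pow_succ']; exact Nat.mul_le_mul_right _ htp.2.le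
      rw [Finset.sum_eq_single_of_mem (t * p ^ j) (Finset.mem_range.mpr (by omega))
        fun i _ hi => by rw [if_neg hi, map_zero], if_pos rfl, monomial_e2, Algebra.smul_def, map_mul,
        show p ^ (j + 1) - t * p ^ j = (p - t) * p ^ j by rw [Nat.sub_mul, pow_succ']]
      ring
  have hg' : g = ∑ n ∈ Finset.range (g.totalDegree + 1), comp n := by
    ext d
    obtain ⟨i, j, rfl⟩ : ∃ i j, d = e2 i j := ⟨_, _, (e2_eta d).symm⟩
    simp only [comp, coeff_sum, coeff_monomial, e2_inj]
    rw [Finset.sum_eq_single (i + j)]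
    · rw [Finset.sum_eq_single i, if_pos ⟨rfl, by omega⟩]
      · simp [G]
      · exact fun x _ hx => if_neg fun e => hx e.1
      · intro hi; simp at hi
    · intro n _ hn
      refine Finset.sum_eq_zero fun x hx => if_neg ?_
      rintro ⟨rfl, e⟩
      simp at hx; omega
    · intro hn
      refine Finset.sum_eq_zero fun x hx => ?_
      split_ifs with hx'
      · obtain ⟨rfl, e⟩ := hx'
        simp at hx hn
        rw [e]
        refine MvPolynomial.coeff_eq_zero_of_totalDegree_lt ?_
        rw [← Finsupp.degree_apply, Finsupp.degree_eq_sum]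
        simp [e2, Fin.sum_univ_two]
        omega
      · rfl
  have hall : Ach (-g) := by
    rw [hg', ← Finset.sum_neg_distrib]
    exact Finset.sum_induction _ Ach achAdd ach0 fun n _ => achComp n
  obtain ⟨-, f, u, hfu, hf0, e⟩ := hall
  refine ⟨f, u, hfu, hf0, fun d => ?_⟩
  have h1 : π (h * dlt f u) = 1 := by
    have hu : π (Polynomial.aeval (X 0 + X 1) f) * π (Polynomial.aeval (X 0 + X 1) u) = 1 := by
      rw [← map_mul, aeval_mul_eq_one hfu, map_one]
    rw [dlt, map_mul, map_mul, e, hπh]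
    linear_combination ((1 + g) * (1 - g)) * hu - hsq g hgK g hgK
  have h2 := congrArg (coeff d) (show π (h * dlt f u - 1) = 0 by rw [map_sub, map_one, h1, sub_self])
  rw [MvPolynomial.coeff_map, coeff_zero] at h2
  exact Ideal.Quotient.eq_zero_iff_mem.mp h2

theorem exists_splitting (hF : Function.Surjective (frobenius R p)) (h : MvPolynomial (Fin 2) R)
    (hh : IsMulCocycle h) :
    ∃ f : Polynomial R, IsUnit f ∧ Polynomial.aeval (X 0 + X 1 : MvPolynomial (Fin 2) R) f =
      Polynomial.aeval (X 0 : MvPolynomial (Fin 2) R) f * Polynomial.aeval (X 1 : MvPolynomial (Fin 2) R) f * h := by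
  classical
  obtain ⟨h0, hnil⟩ := MvPolynomial.isUnit_iff.mp hh.unit
  have hc0 : coeff 0 (h - 1) = 0 := by
    have e := congrArg (coeff (e2 0 0)) hh.zero
    rw [coeff_zeroSnd, show e2 0 0 = (0 : Fin 2 →₀ ℕ) by ext i; fin_cases i <;> rfl] at e
    simp [coeff_sub, e]
  have hcn : ∀ d, IsNilpotent (coeff d (h - 1)) := fun d => by
    by_cases hd : d = 0
    · rw [hd, hc0]; exact IsNilpotent.zero
    · rw [coeff_sub, coeff_one, if_neg (Ne.symm hd), sub_zero]; exact hnil d hd
  choose root hrt using hF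
  let T : Finset R := (h - 1).support.image fun d => coeff d (h - 1)
  let I : Ideal R := Ideal.span (T : Set R)
  let J : Ideal R := Ideal.span ((T.image root : Finset R) : Set R)
  have hT : ∀ x ∈ T, IsNilpotent x := by
    intro x hx
    obtain ⟨d, -, rfl⟩ := Finset.mem_image.mp hx
    exact hcn d
  have hrootI : ∀ x ∈ I, ∃ c ∈ J, c ^ p = x := by
    intro x hx
    induction hx using Submodule.span_induction with
    | mem x hx => exact ⟨root x, Ideal.subset_span (Finset.mem_image_of_mem root hx), hrt x⟩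
    | zero => exact ⟨0, zero_mem _, zero_pow (Fact.out : p.Prime).ne_zero⟩
    | add x y _ _ hx hy =>
      obtain ⟨a, ha, rfl⟩ := hx
      obtain ⟨b, hb, rfl⟩ := hy
      exact ⟨a + b, add_mem ha hb, add_pow_char a b p⟩
    | smul r x _ hx =>
      obtain ⟨a, ha, rfl⟩ := hx
      exact ⟨root r * a, J.mul_mem_left _ ha, by rw [mul_pow, show root r ^ p = r from hrt r, smul_eq_mul]⟩
  have hJnil : J ≤ nilradical R := Ideal.span_le.mpr fun c hc => by
    obtain ⟨x, hx, rfl⟩ := Finset.mem_image.mp hc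
    obtain ⟨m, hm⟩ := hT x hx
    exact ⟨p * m, by rw [pow_mul, show root x ^ p = x from hrt x, hm]; exact zero_mem _⟩
  have hIJ : I ≤ J := fun x hx => by
    obtain ⟨c, hc, rfl⟩ := hrootI x hx
    exact J.pow_mem_of_mem hc p (Fact.out : p.Prime).pos
  obtain ⟨N, hN⟩ := (Ideal.FG.isNilpotent_iff_le_nilradical ⟨T.image root, rfl⟩).mpr hJnil
  have hg : ∀ d, coeff d (h - 1) ∈ I * J ^ 0 := fun d => by
    rw [pow_zero, mul_one]
    by_cases hd : d ∈ (h - 1).support
    · exact Ideal.subset_span (Finset.mem_image.mpr ⟨d, hd, rfl⟩)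
    · rw [notMem_support_iff.mp hd]; exact zero_mem _
  suffices ∀ (m k : ℕ) (h : MvPolynomial (Fin 2) R), N ≤ k + m → IsMulCocycle h →
      (∀ d, coeff d (h - 1) ∈ I * J ^ k) → ∃ f : Polynomial R, IsUnit f ∧
        Polynomial.aeval (X 0 + X 1 : MvPolynomial (Fin 2) R) f =
          Polynomial.aeval (X 0 : MvPolynomial (Fin 2) R) f * Polynomial.aeval (X 1 : MvPolynomial (Fin 2) R) f * h
    from this N 0 h (by omega) hh hg
  intro m
  induction m with
  | zero =>
    intro k h hk _ hg
    have : h = 1 := by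
      refine sub_eq_zero.mp (MvPolynomial.ext _ _ fun d => ?_)
      have := hg d
      rw [pow_eq_zero_of_le (by omega : N ≤ k) hN, Ideal.zero_eq_bot, Ideal.mul_bot, Ideal.mem_bot] at this
      rw [this, coeff_zero]
    exact ⟨1, isUnit_one, by simp [this]⟩
  | succ m ih =>
    intro k h hk hh hg
    obtain ⟨f, u, hfu, hf0, hg'⟩ := exists_step p (fun x => ⟨root x, hrt x⟩) hh hrootI hIJ
      (fun x hx => mem_nilradical.mp (hJnil hx)) (K := I * J ^ k) Ideal.mul_le_left hg
    rw [mul_assoc, ← pow_succ] at hg'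
    obtain ⟨F, hFu, e⟩ := ih (k + 1) (h * dlt f u) (by omega) (hh.mul_dlt hfu hf0) hg'
    refine ⟨F * f, hFu.mul (IsUnit.of_mul_eq_one u hfu), ?_⟩
    have := aeval_mul_eq_one hfu (X 0 + X 1 : MvPolynomial (Fin 2) R)
    simp only [map_mul, dlt] at e ⊢
    linear_combination (Polynomial.aeval (X 0 + X 1 : MvPolynomial (Fin 2) R) f) * e +
      (Polynomial.aeval (X 0 : MvPolynomial (Fin 2) R) F * Polynomial.aeval (X 1 : MvPolynomial (Fin 2) R) F *
        h * Polynomial.aeval (X 0 : MvPolynomial (Fin 2) R) f * Polynomial.aeval (X 1 : MvPolynomial (Fin 2) R) f) * this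

end Step

end Groth.Agent.GaSplit95
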