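import Mathlib.Data.Nat.Choose.Lucas
import Mathlib.Data.Nat.Choose.Dvd
import Mathlib.Algebra.Field.ZMod
import Mathlib.LinearAlgebra.Span.Basic
import Mathlib.Tactic

/-!
Symmetric additive 2-cocycles on the additive group in characteristic `p`, one degree at a time
(`a i` is the coefficient of `X^i Y^(n-i)`).
-/

namespace Groth.Agent.GaSplit95

variable {p : ℕ} [Fact p.Prime] {M : Type*} [AddCommGroup M] [Module (ZMod p) M]

/-- The coefficient of `X^t Y^(p-t)` in the truncated-exponential cocycle. -/
def w (p t : ℕ) [Fact p.Prime] : ZMod p := ((t.factorial * (p - t).factorial : ℕ) : ZMod p)⁻¹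

theorem factorial_ne_zero {t : ℕ} (h : t < p) : ((t.factorial : ℕ) : ZMod p) ≠ 0 := fun e =>
  absurd (((Fact.out : p.Prime).dvd_factorial).mp ((ZMod.natCast_eq_zero_iff _ _).mp e)) (by omega)

theorem choose_mul_mul (a b : ℕ) : (((p * a).choose (p * b) : ℕ) : ZMod p) = (a.choose b : ℕ) := by
  have hp := (Fact.out : p.Prime)
  have h := Choose.choose_modEq_choose_mod_mul_choose_div_nat (p := p) (n := p * a) (k := p * b)
  rw [← ZMod.natCast_eq_natCast_iff] at h
  simpa [Nat.mul_div_cancel_left _ hp.pos] using h

/-- The cocycle condition in a fixed degree. -/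
structure IsCocycle (n : ℕ) (a : ℕ → M) : Prop where
  eq_zero : ∀ i, i = 0 ∨ n ≤ i → a i = 0
  symm : ∀ i, 0 < i → i < n → a i = a (n - i)
  assoc : ∀ i j, 1 ≤ i → i + j < n →
    (((i + j).choose i : ℕ) : ZMod p) • a (i + j) = (((n - i).choose j : ℕ) : ZMod p) • a i

theorem IsCocycle.succ_smul {n : ℕ} {a : ℕ → M} (h : IsCocycle (p := p) n a) {m : ℕ} (h0 : 0 < m)
    (hm : m < n) : (m : ZMod p) • a m = (((n - 1).choose (m - 1) : ℕ) : ZMod p) • a 1 := by
  have := h.assoc 1 (m - 1) le_rfl (by omega)
  rwa [show 1 + (m - 1) = m by omega, Nat.choose_one_right] at this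

theorem exists_normal_form : ∀ (n : ℕ) (a : ℕ → M), IsCocycle (p := p) n a →
    ∃ l ∈ Submodule.span (ZMod p) (Set.range a),
      (∀ i, 0 < i → i < n → a i = ((n.choose i : ℕ) : ZMod p) • l) ∨
      ∃ j : ℕ, n = p ^ (j + 1) ∧ ∀ i, a i = ∑ t ∈ Finset.Ioo 0 p, if i = t * p ^ j then w p t • l else 0 := by
  intro n
  induction n using Nat.strong_induction_on with
  | _ n ih =>
    intro a ha
    have hp := (Fact.out : p.Prime)
    have hspan : ∀ i (c : ZMod p), c • a i ∈ Submodule.span (ZMod p) (Set.range a) := fun i c =>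
      Submodule.smul_mem _ _ (Submodule.subset_span ⟨i, rfl⟩)
    by_cases hn : p ∣ n
    swap
    · -- all coefficients are determined by the first one
      have hne : (n : ZMod p) ≠ 0 := fun e => hn ((ZMod.natCast_eq_zero_iff _ _).mp e)
      refine ⟨((n : ZMod p)⁻¹) • a 1, hspan _ _, Or.inl ?_⟩
      have key : ∀ m, 0 < m → m < n → (m : ZMod p) ≠ 0 → a m = ((n.choose m : ℕ) : ZMod p) • ((n : ZMod p)⁻¹) • a 1 := by
        intro m h0 hm hm0
        have e := ha.succ_smul h0 hm
        rw [smul_smul, show a m = (m : ZMod p)⁻¹ • ((m : ZMod p) • a m) by rw [smul_smul, inv_mul_cancel₀ hm0, one_smul],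
          e, smul_smul]
        congr 1
        have hc : n * (n - 1).choose (m - 1) = n.choose m * m := by
          have := Nat.add_one_mul_choose_eq (n - 1) (m - 1)
          rwa [show n - 1 + 1 = n by omega, show m - 1 + 1 = m by omega] at this
        have hc' : (n : ZMod p) * ((n - 1).choose (m - 1) : ℕ) = (n.choose m : ℕ) * (m : ZMod p) := by
          exact_mod_cast congrArg (Nat.cast : ℕ → ZMod p) hc
        field_simp
        linear_combination hc'
      intro i h0 hi
      by_cases hi0 : (i : ZMod p) = 0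
      · have : ((n - i : ℕ) : ZMod p) ≠ 0 := by
          rw [Nat.cast_sub hi.le, hi0, sub_zero]; exact hne
        rw [ha.symm i h0 hi, key (n - i) (by omega) (by omega) this, Nat.choose_symm hi.le]
      · exact key i h0 hi hi0
    obtain ⟨m, rfl⟩ := hn
    rcases Nat.lt_or_ge m 2 with hm | hm
    · interval_cases m
      · exact ⟨0, zero_mem _, Or.inl fun i h0 hi => by simp at hi⟩
      · -- degree p
        rw [mul_one] at ha ⊢
        have h1 : ((p - 1).factorial : ZMod p) ≠ 0 := factorial_ne_zero (by have := hp.pos; omega)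
        refine ⟨(w p 1)⁻¹ • a 1, hspan _ _, Or.inr ⟨0, by simp, fun i => ?_⟩⟩
        simp only [pow_zero, mul_one, Finset.sum_ite_eq, Finset.mem_Ioo]
        split_ifs with hi
        · have hi0 : (i : ZMod p) ≠ 0 := fun e =>
            absurd (Nat.le_of_dvd hi.1 ((ZMod.natCast_eq_zero_iff _ _).mp e)) (by omega)
          have e := ha.succ_smul hi.1 hi.2
          rw [show a i = (i : ZMod p)⁻¹ • ((i : ZMod p) • a i) by rw [smul_smul, inv_mul_cancel₀ hi0, one_smul],
            e, smul_smul, smul_smul]
          congr 1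
          have hc : (p - 1).choose (i - 1) * (i - 1).factorial * (p - i).factorial = (p - 1).factorial := by
            have := Nat.choose_mul_factorial_mul_factorial (n := p - 1) (k := i - 1) (by omega)
            rwa [show p - 1 - (i - 1) = p - i by omega] at this
          have hc' := congrArg (Nat.cast : ℕ → ZMod p) hc
          push_cast at hc'
          have hf : (i.factorial : ZMod p) = i * (i - 1).factorial := by
            exact_mod_cast congrArg (Nat.cast : ℕ → ZMod p) (Nat.mul_factorial_pred (by omega : i ≠ 0)).symm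
          have := factorial_ne_zero (p := p) (t := i) hi.2
          have := factorial_ne_zero (p := p) (t := p - i) (by omega)
          simp only [w, Nat.factorial_one, one_mul, inv_inv, Nat.cast_mul]
          field_simp
          rw [hf]
          linear_combination (i : ZMod p) * hc'
        · exact ha.eq_zero i (by omega)
    -- degree p * m with m ≥ 2
    have hlt : p < p * m := by nlinarith [hp.two_le]
    have h1 : a 1 = 0 := by
      have e := ha.succ_smul hp.pos hlt
      rw [ZMod.natCast_self, zero_smul] at e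
      have hc : (((p * m - 1).choose (p - 1) : ℕ) : ZMod p) = 1 := by
        have h := Choose.choose_modEq_choose_mod_mul_choose_div_nat (p := p) (n := p * m - 1) (k := p - 1)
        rw [← ZMod.natCast_eq_natCast_iff] at h
        have := hp.pos
        have e1 : p * m - 1 = (p - 1) + p * (m - 1) := by
          obtain ⟨k, rfl⟩ : ∃ k, m = k + 1 := ⟨m - 1, by omega⟩
          rw [Nat.add_sub_cancel, mul_add, mul_one]; omega
        rw [h, e1, Nat.add_mul_mod_self_left, Nat.mod_eq_of_lt (by omega : p - 1 < p),
          Nat.div_eq_of_lt (by omega : p - 1 < p)]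
        simp
      rw [hc, one_smul] at e
      exact e.symm
    have hsupp : ∀ i, ¬ p ∣ i → a i = 0 := by
      intro i hi
      by_cases h : i = 0 ∨ p * m ≤ i
      · exact ha.eq_zero i h
      push Not at h
      have hi0 : (i : ZMod p) ≠ 0 := fun e => hi ((ZMod.natCast_eq_zero_iff _ _).mp e)
      have e := ha.succ_smul (Nat.pos_of_ne_zero h.1) h.2
      rw [h1, smul_zero] at e
      exact (smul_eq_zero_iff_right hi0).mp e
    let b : ℕ → M := fun i => a (p * i)
    have hb : IsCocycle (p := p) m b := by
      refine ⟨fun i hi => ha.eq_zero _ ?_, fun i h0 hi => ?_, fun i j h1 hij => ?_⟩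
      · rcases hi with rfl | hi
        · exact Or.inl (mul_zero _)
        · exact Or.inr (Nat.mul_le_mul_left p hi)
      · have := ha.symm (p * i) (Nat.mul_pos hp.pos h0) (Nat.mul_lt_mul_of_pos_left hi hp.pos)
        rwa [← Nat.mul_sub] at this
      · have := ha.assoc (p * i) (p * j) (Nat.mul_pos hp.pos h1)
          (by rw [← mul_add]; exact Nat.mul_lt_mul_of_pos_left hij hp.pos)
        rwa [← mul_add, choose_mul_mul, ← Nat.mul_sub, choose_mul_mul] at this
    obtain ⟨l, hl, hl'⟩ := ih m (by nlinarith [hp.two_le]) b hb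
    refine ⟨l, Submodule.span_mono (by rintro _ ⟨i, rfl⟩; exact ⟨_, rfl⟩) hl, ?_⟩
    rcases hl' with hl' | ⟨j, rfl, hl'⟩
    · refine Or.inl fun i h0 hi => ?_
      by_cases hpi : p ∣ i
      · obtain ⟨k, rfl⟩ := hpi
        rw [choose_mul_mul]
        exact hl' k (Nat.pos_of_mul_pos_left h0) (Nat.lt_of_mul_lt_mul_left hi)
      · rw [hsupp i hpi]
        have h := Choose.choose_modEq_choose_mod_mul_choose_div_nat (p := p) (n := p * m) (k := i)
        rw [← ZMod.natCast_eq_natCast_iff] at h
        rw [h, Nat.mul_mod_right, Nat.choose_eq_zero_of_lt (Nat.pos_of_ne_zero fun e => hpi (Nat.dvd_of_mod_eq_zero e))]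
        simp
    · refine Or.inr ⟨j + 1, by rw [pow_succ' p (j + 1)], fun i => ?_⟩
      by_cases hpi : p ∣ i
      · obtain ⟨k, rfl⟩ := hpi
        refine (hl' k).trans (Finset.sum_congr rfl fun t _ => if_congr ?_ rfl rfl)
        rw [pow_succ' p j, mul_left_comm, mul_right_inj' hp.ne_zero]
      · rw [hsupp i hpi, Finset.sum_eq_zero]
        intro t _
        rw [if_neg]
        rintro rfl
        exact hpi (Dvd.dvd.mul_left (dvd_pow_self p (by omega)) t)

end Groth.Agent.GaSplit95
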